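import Cfsg.Agent.H18.O7.FusionData

/-!
Orbit certificates in the three cosets of the radical.
-/

set_option autoImplicit false
set_option maxRecDepth 20000

namespace Cfsg.Agent.H18.O7

def cert0 : List (ℕ × ℕ) :=
  [(9, 6), (20, 6), (26, 7), (4, 7), (7, 6), (12, 6), (14, 8), (15, 6),
   (16, 8), (17, 8), (23, 6), (24, 8), (25, 8), (3, 8), (5, 7), (8, 6),
   (10, 7), (11, 7), (19, 7), (21, 6), (22, 7), (2, 6), (6, 8), (13, 6),
   (18, 6), (29, 1), (33, 0), (35, 0), (486, 6), (492, 2), (501, 8), (504, 1),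
   (510, 1), (28, 1), (30, 0), (32, 0), (34, 0), (297, 6), (300, 0), (303, 0),
   (307, 1), (310, 0), (313, 0), (317, 1), (320, 0), (323, 0), (378, 8), (382, 2),
   (386, 2), (388, 1), (392, 1), (393, 1), (398, 0), (399, 0), (403, 0), (489, 2),
   (495, 1), (498, 2), (507, 1), (31, 0), (108, 6), (109, 2), (110, 1), (120, 6),
   (121, 2), (122, 1), (132, 0), (133, 0), (134, 0), (189, 8), (190, 8), (191, 1),
   (204, 0), (205, 0), (206, 0), (210, 0), (211, 0), (212, 0), (351, 7), (355, 2),
   (359, 2), (362, 1), (363, 1), (367, 1), (370, 0), (374, 0), (375, 0), (405, 7),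
   (410, 2), (412, 2), (414, 0), (419, 0), (421, 0), (423, 0), (428, 0), (430, 0),
   (432, 7), (437, 2), (439, 2), (443, 0), (445, 0), (447, 0), (451, 0), (453, 0),
   (458, 0), (567, 6), (572, 6), (574, 2), (576, 6), (581, 6), (583, 2), (585, 0),
   (590, 0), (592, 0), (594, 7), (599, 7), (601, 2), (604, 7), (606, 7), (611, 2),
   (614, 0), (616, 0), (618, 0), (621, 7), (626, 7), (628, 2), (632, 7), (634, 7),
   (636, 2), (640, 0), (642, 0), (647, 0), (648, 6), (652, 6), (656, 2), (657, 0),
   (661, 0), (665, 0), (666, 0), (670, 0), (674, 0), (675, 6), (679, 6), (683, 2),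
   (685, 0), (689, 0), (690, 0), (695, 0), (696, 0), (700, 0), (702, 7), (706, 7),
   (710, 2), (713, 0), (714, 0), (718, 0), (721, 0), (725, 0), (726, 0), (54, 8),
   (55, 1), (56, 1), (57, 0), (58, 0), (59, 0), (60, 0), (61, 0), (62, 0),
   (81, 7), (82, 2), (83, 2), (90, 6), (91, 2), (92, 2), (99, 0), (100, 0),
   (101, 0), (135, 6), (136, 1), (137, 1), (150, 6), (151, 1), (152, 1), (156, 0),
   (157, 0), (158, 0), (216, 6), (217, 1), (218, 1), (228, 0), (229, 0), (230, 0),
   (240, 0), (241, 0), (242, 0), (243, 6), (246, 2), (249, 2), (252, 1), (255, 1),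
   (258, 1), (261, 1), (264, 1), (267, 1), (270, 8), (273, 2), (276, 0), (281, 1),
   (284, 1), (287, 0), (289, 1), (292, 1), (295, 0), (324, 6), (328, 2), (332, 2),
   (333, 1), (337, 1), (341, 1), (342, 0), (346, 0), (350, 0), (459, 6), (464, 2),
   (466, 2), (469, 0), (471, 0), (476, 0), (479, 0), (481, 0), (483, 0), (513, 6),
   (516, 6), (519, 0), (523, 6), (526, 6), (529, 0), (533, 1), (536, 1), (539, 0),
   (540, 8), (543, 0), (546, 0), (551, 8), (554, 0), (557, 0), (559, 1), (562, 0),
   (565, 0), (162, 7), (163, 7), (164, 2), (171, 0), (172, 0), (173, 0), (180, 0),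
   (181, 0), (182, 0), (38, 1), (42, 0), (44, 0), (494, 8), (497, 6), (500, 7),
   (503, 2), (506, 6), (509, 7), (512, 1), (37, 1), (39, 0), (41, 0), (43, 0),
   (298, 6), (301, 0), (304, 0), (308, 1), (311, 0), (314, 0), (315, 1), (318, 0),
   (321, 0), (379, 8), (383, 2), (384, 2), (389, 1), (390, 1), (394, 1), (396, 0),
   (400, 0), (404, 0), (488, 1), (491, 1), (40, 0), (114, 6), (115, 2), (116, 1),
   (117, 6), (118, 2), (119, 1), (129, 0), (130, 0), (131, 0), (192, 8), (193, 8),
   (194, 1), (198, 0), (199, 0), (200, 0), (213, 0), (214, 0), (215, 0), (352, 7),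
   (356, 2), (357, 2), (360, 1), (364, 1), (368, 1), (371, 0), (372, 0), (376, 0),
   (406, 7), (408, 2), (413, 2), (415, 0), (417, 0), (422, 0), (424, 0), (426, 0),
   (431, 0), (433, 7), (435, 2), (440, 2), (441, 0), (446, 0), (448, 0), (452, 0),
   (454, 0), (456, 0), (569, 6), (571, 6), (573, 2), (578, 6), (580, 6), (582, 2),
   (587, 0), (589, 0), (591, 0), (596, 7), (598, 7), (600, 2), (603, 7), (608, 7),
   (610, 2), (613, 0), (615, 0), (620, 0), (623, 7), (625, 7), (627, 2), (631, 7),
   (633, 6), (638, 2), (639, 0), (644, 0), (646, 0), (650, 6), (651, 6), (655, 2),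
   (659, 0), (660, 0), (664, 0), (668, 0), (669, 0), (673, 0), (677, 6), (678, 6),
   (682, 2), (684, 0), (688, 0), (692, 0), (694, 0), (698, 0), (699, 0), (704, 7),
   (705, 7), (709, 2), (712, 0), (716, 0), (717, 0), (720, 0), (724, 0), (728, 0),
   (72, 8), (73, 1), (74, 1), (75, 0), (76, 0), (77, 0), (78, 0), (79, 0),
   (80, 0), (87, 7), (88, 2), (89, 2), (96, 6), (97, 2), (98, 2), (105, 0),
   (106, 0), (107, 0), (141, 6), (142, 1), (143, 1), (147, 6), (148, 1), (149, 1),
   (153, 0), (154, 0), (155, 0), (219, 6), (220, 1), (221, 1), (231, 0), (232, 0),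
   (233, 0), (234, 0), (235, 0), (236, 0), (244, 6), (247, 2), (250, 2), (253, 1),
   (256, 1), (259, 1), (262, 1), (265, 1), (268, 1), (271, 8), (274, 2), (277, 0),
   (279, 1), (282, 1), (285, 0), (290, 1), (293, 1), (296, 0), (325, 6), (329, 2),
   (330, 2), (334, 1), (338, 1), (339, 1), (343, 0), (347, 0), (348, 0), (460, 6),
   (462, 2), (467, 2), (470, 0), (472, 0), (474, 0), (477, 0), (482, 0), (484, 0),
   (515, 6), (518, 6), (521, 0), (522, 6), (525, 6), (528, 0), (532, 1), (535, 1),
   (538, 0), (542, 8), (545, 0), (548, 0), (550, 8), (553, 0), (556, 0), (558, 1),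
   (561, 0), (564, 0), (165, 7), (166, 7), (167, 2), (174, 0), (175, 0), (176, 0),
   (183, 0), (184, 0), (185, 0), (47, 1), (51, 0), (53, 0), (487, 6), (490, 7),
   (493, 2), (496, 6), (499, 7), (502, 2), (505, 1), (508, 1), (511, 1), (46, 1),
   (48, 0), (50, 0), (52, 0), (299, 6), (302, 0), (305, 0), (306, 1), (309, 0),
   (312, 0), (316, 1), (319, 0), (322, 0), (380, 8), (381, 2), (385, 2), (387, 1),
   (391, 1), (395, 1), (397, 0), (401, 0), (402, 0), (49, 0), (111, 6), (112, 2),
   (113, 1), (123, 6), (124, 2), (125, 1), (126, 0), (127, 0), (128, 0), (195, 8),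
   (196, 8), (197, 1), (201, 0), (202, 0), (203, 0), (207, 0), (208, 0), (209, 0),
   (353, 7), (354, 2), (358, 2), (361, 1), (365, 1), (366, 1), (369, 0), (373, 0),
   (377, 0), (407, 7), (409, 2), (411, 2), (416, 0), (418, 0), (420, 0), (425, 0),
   (427, 0), (429, 0), (434, 7), (436, 2), (438, 2), (442, 0), (444, 0), (449, 0),
   (450, 0), (455, 0), (457, 0), (568, 6), (570, 6), (575, 2), (577, 6), (579, 6),
   (584, 2), (586, 0), (588, 0), (593, 0), (595, 7), (597, 7), (602, 2), (605, 7),
   (607, 7), (609, 2), (612, 0), (617, 0), (619, 0), (622, 7), (624, 7), (629, 2),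
   (630, 6), (635, 7), (637, 2), (641, 0), (643, 0), (645, 0), (649, 6), (653, 6),
   (654, 2), (658, 0), (662, 0), (663, 0), (667, 0), (671, 0), (672, 0), (676, 6),
   (680, 6), (681, 2), (686, 0), (687, 0), (691, 0), (693, 0), (697, 0), (701, 0),
   (703, 7), (707, 7), (708, 2), (711, 0), (715, 0), (719, 0), (722, 0), (723, 0),
   (727, 0), (63, 8), (64, 1), (65, 1), (66, 0), (67, 0), (68, 0), (69, 0),
   (70, 0), (71, 0), (84, 7), (85, 2), (86, 2), (93, 6), (94, 2), (95, 2),
   (102, 0), (103, 0), (104, 0), (138, 6), (139, 1), (140, 1), (144, 6), (145, 1),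
   (146, 1), (159, 0), (160, 0), (161, 0), (222, 6), (223, 1), (224, 1), (225, 0),
   (226, 0), (227, 0), (237, 0), (238, 0), (239, 0), (245, 6), (248, 2), (251, 2),
   (254, 1), (257, 1), (260, 1), (263, 1), (266, 1), (269, 1), (272, 8), (275, 2),
   (278, 0), (280, 1), (283, 1), (286, 0), (288, 1), (291, 1), (294, 0), (326, 6),
   (327, 2), (331, 2), (335, 1), (336, 1), (340, 1), (344, 0), (345, 0), (349, 0),
   (461, 6), (463, 2), (465, 2), (468, 0), (473, 0), (475, 0), (478, 0), (480, 0),
   (485, 0), (514, 6), (517, 6), (520, 0), (524, 6), (527, 6), (530, 0), (531, 1),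
   (534, 1), (537, 0), (541, 8), (544, 0), (547, 0), (549, 6), (552, 0), (555, 0),
   (560, 1), (563, 0), (566, 0), (168, 7), (169, 7), (170, 2), (177, 0), (178, 0),
   (179, 0), (186, 0), (187, 0), (188, 0)]

def roots0 : List ℕ := [1, 27, 36, 45, 0]

theorem roots0_good : ∀ c ∈ roots0, Good (gel 0 (dec c)) := by
  intro c hc
  simp only [roots0, List.mem_cons, List.not_mem_nil, or_false] at hc
  rcases hc with rfl | rfl | rfl | rfl | rfl
  · rw [show dec 1 = (0, 0, 0, 0, 0, 1) by decide +kernel]; exact Or.inr ⟨0, 1, one_mem _, by simp [rep]⟩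
  · rw [show dec 27 = (0, 0, 1, 0, 0, 0) by decide +kernel]; exact Or.inr ⟨1, 1, one_mem _, by simp [rep]⟩
  · rw [show dec 36 = (0, 0, 1, 1, 0, 0) by decide +kernel]; exact Or.inr ⟨3, 1, one_mem _, by simp [rep]⟩
  · rw [show dec 45 = (0, 0, 1, 2, 0, 0) by decide +kernel]; exact Or.inr ⟨4, 1, one_mem _, by simp [rep]⟩
  · rw [show dec 0 = (0, 0, 0, 0, 0, 0) by decide +kernel]; exact Or.inl (by rw [gel, rO_zero]; simp [jordan])

theorem good_coset0 (v : V6) (hv : gel 0 v * gel 0 v * gel 0 v = 1) : Good (gel 0 v) :=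
  good_of_cert cert0 roots0 roots0_good 2824013958708217496949108842204627863351353911851577524683401930862693830361198499905873920995229996970897865498283996578123296865878390947626553088486946106430796091482716120572632072492703527723757359478834530365734911 (by decide +kernel) (by decide +kernel) v hv

def cert1 : List (ℕ × ℕ) :=
  [(21, 5), (24, 5), (252, 1), (255, 1), (258, 1), (495, 1), (498, 1), (501, 1),
   (39, 5), (42, 0), (272, 1), (275, 1), (278, 0), (514, 1), (517, 1), (520, 0),
   (522, 7), (525, 5), (528, 0), (47, 1), (50, 1), (52, 8), (53, 0), (279, 7),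
   (280, 1), (282, 1), (283, 1), (285, 0), (286, 0), (524, 1), (527, 1), (530, 0),
   (46, 1), (49, 0), (3, 5), (6, 5), (261, 1), (264, 1), (267, 1), (504, 1),
   (507, 1), (510, 1), (12, 5), (15, 5), (243, 1), (246, 1), (249, 1), (486, 1),
   (489, 1), (492, 1), (30, 5), (33, 0), (290, 1), (293, 1), (296, 0), (513, 7),
   (516, 5), (519, 0), (532, 1), (535, 1), (538, 0), (38, 1), (41, 1), (43, 8),
   (44, 0), (270, 7), (271, 1), (273, 1), (274, 1), (276, 0), (277, 0), (515, 1),
   (518, 1), (521, 0), (37, 1), (40, 0), (57, 0), (60, 0), (297, 7), (300, 0),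
   (303, 0), (316, 1), (319, 0), (322, 0), (540, 7), (541, 1), (543, 0), (544, 0),
   (546, 0), (547, 0), (560, 1), (563, 0), (566, 0), (64, 1), (65, 1), (67, 0),
   (68, 0), (70, 0), (71, 0), (299, 1), (302, 0), (305, 0), (2, 8), (4, 5),
   (5, 5), (7, 5), (8, 5), (10, 7), (11, 8), (13, 5), (14, 5), (16, 5),
   (17, 5), (19, 7), (20, 7), (22, 5), (23, 5), (25, 5), (26, 5), (244, 1),
   (245, 1), (247, 1), (248, 1), (250, 1), (251, 1), (253, 1), (254, 1), (256, 1),
   (257, 1), (259, 1), (260, 1), (262, 1), (263, 1), (265, 1), (266, 1), (268, 1),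
   (269, 1), (487, 1), (488, 1), (490, 1), (491, 1), (493, 1), (494, 1), (496, 1),
   (497, 1), (499, 1), (500, 1), (502, 1), (503, 1), (505, 1), (506, 1), (508, 1),
   (509, 1), (511, 1), (512, 1), (29, 8), (31, 5), (32, 5), (34, 0), (35, 0),
   (288, 1), (289, 1), (291, 1), (292, 1), (294, 0), (295, 0), (523, 7), (526, 5),
   (529, 0), (531, 1), (533, 1), (534, 1), (536, 1), (537, 0), (539, 0), (45, 1),
   (48, 1), (51, 0), (281, 1), (284, 1), (287, 0), (56, 8), (58, 0), (59, 0),
   (61, 0), (62, 0), (307, 7), (310, 0), (313, 0), (315, 1), (317, 1), (318, 0),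
   (320, 0), (321, 0), (323, 0), (551, 1), (554, 0), (557, 0), (558, 1), (559, 1),
   (561, 0), (562, 0), (564, 0), (565, 0), (72, 1), (75, 0), (78, 0), (66, 0),
   (69, 0), (298, 1), (301, 0), (304, 0), (306, 7), (309, 0), (312, 0), (542, 1),
   (545, 0), (548, 0), (549, 7), (550, 1), (552, 0), (553, 0), (555, 0), (556, 0),
   (73, 1), (74, 1), (76, 0), (77, 0), (79, 0), (80, 0), (308, 1), (311, 0),
   (314, 0)]

def roots1 : List ℕ := [18, 36, 0, 9, 27, 54, 1, 28, 55, 63]

theorem roots1_good : ∀ c ∈ roots1, Good (gel 1 (dec c)) := by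
  intro c hc
  simp only [roots1, List.mem_cons, List.not_mem_nil, or_false] at hc
  rcases hc with rfl | rfl | rfl | rfl | rfl | rfl | rfl | rfl | rfl | rfl
  · rw [show dec 18 = (0, 0, 0, 2, 0, 0) by decide +kernel]; exact Or.inr ⟨2, 1, one_mem _, by simp [rep]⟩
  · rw [show dec 36 = (0, 0, 1, 1, 0, 0) by decide +kernel]; exact Or.inr ⟨6, 1, one_mem _, by simp [rep]⟩
  · rw [show dec 0 = (0, 0, 0, 0, 0, 0) by decide +kernel]; exact good_a
  · rw [show dec 9 = (0, 0, 0, 1, 0, 0) by decide +kernel]; exact good_b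
  · rw [show dec 27 = (0, 0, 1, 0, 0, 0) by decide +kernel]; exact good_c
  · rw [show dec 54 = (0, 0, 2, 0, 0, 0) by decide +kernel]; exact good_d
  · rw [show dec 1 = (0, 0, 0, 0, 0, 1) by decide +kernel]; exact good_e
  · rw [show dec 28 = (0, 0, 1, 0, 0, 1) by decide +kernel]; exact good_f
  · rw [show dec 55 = (0, 0, 2, 0, 0, 1) by decide +kernel]; exact good_g
  · rw [show dec 63 = (0, 0, 2, 1, 0, 0) by decide +kernel]; exact good_h

theorem good_coset1 (v : V6) (hv : gel 1 v * gel 1 v * gel 1 v = 1) : Good (gel 1 v) :=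
  good_of_cert cert1 roots1 roots1_good 483067190377157293086918786574591197813863107791081668069510838521158762262217190655713366117269370944244579910915811775010918979511320792228338885469377085883904398721023 (by decide +kernel) (by decide +kernel) v hv

def cert2 : List (ℕ × ℕ) :=
  [(3, 5), (6, 5), (9, 4), (12, 4), (15, 4), (18, 4), (21, 4), (24, 4),
   (243, 1), (246, 1), (249, 1), (252, 1), (255, 1), (258, 1), (261, 1), (264, 1),
   (267, 1), (486, 1), (489, 1), (492, 1), (495, 1), (498, 1), (501, 1), (504, 1),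
   (507, 1), (510, 1), (569, 2), (572, 2), (575, 2), (578, 2), (581, 2), (584, 2),
   (587, 0), (590, 0), (593, 0), (83, 1), (86, 1), (89, 1), (92, 1), (95, 1),
   (98, 1), (101, 0), (104, 0), (107, 0), (326, 1), (329, 1), (332, 1), (335, 1),
   (338, 1), (341, 1), (344, 0), (347, 0), (350, 0), (407, 2), (410, 2), (413, 2),
   (416, 0), (419, 0), (422, 0), (425, 0), (428, 0), (431, 0), (650, 1), (653, 1),
   (656, 1), (659, 0), (662, 0), (665, 0), (668, 0), (671, 0), (674, 0), (164, 1),
   (167, 1), (170, 1), (173, 0), (176, 0), (179, 0), (182, 0), (185, 0), (188, 0)]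

def roots2 : List ℕ := [0]

theorem roots2_good : ∀ c ∈ roots2, Good (gel 2 (dec c)) := by
  intro c hc
  simp only [roots2, List.mem_cons, List.not_mem_nil, or_false] at hc
  subst hc
  · rw [show dec 0 = (0, 0, 0, 0, 0, 0) by decide +kernel]; exact Or.inr ⟨5, 1, one_mem _, by simp [rep]⟩

theorem good_coset2 (v : V6) (hv : gel 2 v * gel 2 v * gel 2 v = 1) : Good (gel 2 v) :=
  good_of_cert cert2 roots2 roots2_good 89579579870314377069171029547938752562149392840182685750376912448141736977121822996142299177122973131666484105456593246099281971078461030902668138206480094435743138279094837375108584181391591202705674825 (by decide +kernel) (by decide +kernel) v hv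

end Cfsg.Agent.H18.O7
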