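import Cfsg.Agent.H18.O7.Fusion

/-!
Certificates for the conjugations between the orbit representatives.
-/

set_option autoImplicit false
set_option maxRecDepth 10000

namespace Cfsg.Agent.H18.O7

def fus_a0 : M7 := toM [[1, 0, 0, 0, 0, 0, 0], [0, 1, 1, 0, 0, 0, 0], [0, 0, 1, 0, 0, 0, 0], [0, 0, 0, 1, 0, 0, 0], [0, 0, 0, 0, 1, 0, 0], [0, 0, 0, 0, 2, 1, 0], [0, 0, 0, 0, 0, 0, 1]]
def fus_a1 : M7 := toM [[1, 0, 0, 0, 0, 0, 0], [0, 1, 2, 0, 0, 0, 0], [0, 0, 1, 0, 0, 0, 0], [0, 0, 1, 1, 0, 0, 0], [0, 0, 0, 0, 1, 0, 0], [0, 0, 0, 0, 1, 1, 2], [0, 0, 0, 0, 0, 0, 1]]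
def fus_a2 : M7 := toM [[1, 0, 0, 0, 0, 0, 0], [0, 1, 0, 0, 0, 0, 0], [0, 0, 1, 0, 0, 0, 0], [0, 0, 2, 1, 0, 0, 0], [0, 0, 0, 0, 1, 0, 0], [0, 0, 0, 0, 0, 1, 1], [0, 0, 0, 0, 0, 0, 1]]
def fus_a3 : M7 := toM [[1, 0, 0, 0, 0, 0, 0], [0, 1, 0, 0, 0, 0, 0], [0, 0, 1, 0, 0, 0, 1], [0, 0, 0, 1, 0, 2, 0], [0, 0, 0, 0, 1, 0, 0], [0, 0, 0, 0, 0, 1, 0], [0, 0, 0, 0, 0, 0, 1]]

theorem good_a : Good (gel 1 (0, 0, 0, 0, 0, 0)) := by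
  refine good_of_goodM (M := fus_a0) (by decide +kernel) ?_
  refine goodM_step (M' := fus_a1) (.lev !![2, 0, 2; 0, 1, 0; 1, 0, 0] !![0, 0, 1; 0, 1, 0; 2, 0, 2]) (by decide +kernel) (by decide +kernel) ?_
  refine goodM_step (M' := fus_a2) (.lev !![2, 0, 2; 0, 1, 0; 1, 0, 0] !![0, 0, 1; 0, 1, 0; 2, 0, 2]) (by decide +kernel) (by decide +kernel) ?_
  refine goodM_step (M' := fus_a3) (.w) (by decide +kernel) (by decide +kernel) ?_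
  exact goodM_rep 0 0 (0, 0, 0, 0, 0, 1) rfl (by decide +kernel)

def fus_b0 : M7 := toM [[1, 0, 0, 0, 0, 0, 0], [0, 1, 1, 0, 2, 1, 0], [0, 0, 1, 0, 2, 0, 0], [0, 0, 0, 1, 0, 0, 0], [0, 0, 0, 0, 1, 0, 0], [0, 0, 0, 0, 2, 1, 0], [0, 0, 0, 0, 0, 0, 1]]
def fus_b1 : M7 := toM [[1, 0, 0, 0, 1, 0, 0], [1, 1, 1, 0, 2, 0, 0], [0, 0, 1, 0, 0, 0, 0], [0, 0, 0, 1, 0, 0, 0], [0, 0, 0, 0, 1, 0, 0], [0, 0, 0, 0, 2, 1, 0], [0, 0, 0, 0, 0, 0, 1]]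
def fus_b2 : M7 := toM [[1, 0, 0, 0, 2, 0, 0], [2, 1, 1, 0, 2, 0, 0], [0, 0, 1, 0, 0, 0, 0], [0, 0, 0, 1, 0, 0, 0], [0, 0, 0, 0, 1, 0, 0], [0, 0, 0, 0, 2, 1, 0], [0, 0, 0, 0, 0, 0, 1]]
def fus_b3 : M7 := toM [[1, 0, 0, 0, 1, 0, 2], [1, 1, 2, 0, 2, 0, 1], [0, 0, 1, 0, 0, 0, 0], [2, 0, 1, 1, 1, 0, 2], [0, 0, 0, 0, 1, 0, 0], [0, 0, 0, 0, 1, 1, 2], [0, 0, 0, 0, 0, 0, 1]]
def fus_b4 : M7 := toM [[1, 0, 0, 0, 0, 0, 1], [0, 1, 0, 0, 0, 0, 0], [0, 0, 1, 0, 0, 0, 0], [1, 0, 2, 1, 0, 0, 2], [0, 0, 0, 0, 1, 0, 0], [0, 0, 0, 0, 0, 1, 1], [0, 0, 0, 0, 0, 0, 1]]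
def fus_b5 : M7 := toM [[1, 0, 0, 0, 0, 0, 1], [0, 1, 0, 0, 0, 0, 0], [0, 0, 1, 0, 0, 0, 1], [1, 0, 0, 1, 0, 2, 2], [0, 0, 0, 0, 1, 0, 0], [0, 0, 0, 0, 0, 1, 0], [0, 0, 0, 0, 0, 0, 1]]
def fus_b6 : M7 := toM [[1, 0, 0, 0, 0, 0, 1], [0, 1, 0, 0, 0, 0, 0], [0, 0, 1, 0, 0, 0, 0], [1, 0, 0, 1, 0, 0, 2], [0, 0, 0, 0, 1, 0, 0], [0, 0, 0, 0, 0, 1, 0], [0, 0, 0, 0, 0, 0, 1]]

theorem good_b : Good (gel 1 (0, 0, 0, 1, 0, 0)) := by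
  refine good_of_goodM (M := fus_b0) (by decide +kernel) ?_
  refine goodM_step (M' := fus_b1) (.rad (0, 2, 0, 0, 0, 0)) (by decide +kernel) (by decide +kernel) ?_
  refine goodM_step (M' := fus_b2) (.rad (0, 2, 0, 0, 0, 0)) (by decide +kernel) (by decide +kernel) ?_
  refine goodM_step (M' := fus_b3) (.lev !![2, 0, 2; 0, 1, 0; 1, 0, 0] !![0, 0, 1; 0, 1, 0; 2, 0, 2]) (by decide +kernel) (by decide +kernel) ?_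
  refine goodM_step (M' := fus_b4) (.lev !![2, 0, 2; 0, 1, 0; 1, 0, 0] !![0, 0, 1; 0, 1, 0; 2, 0, 2]) (by decide +kernel) (by decide +kernel) ?_
  refine goodM_step (M' := fus_b5) (.w) (by decide +kernel) (by decide +kernel) ?_
  refine goodM_step (M' := fus_b6) (.rad (0, 2, 0, 0, 0, 0)) (by decide +kernel) (by decide +kernel) ?_
  exact goodM_rep 1 0 (0, 0, 1, 0, 0, 0) rfl (by decide +kernel)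

def fus_c0 : M7 := toM [[1, 0, 0, 0, 0, 0, 1], [0, 1, 1, 0, 0, 0, 0], [0, 0, 1, 0, 0, 0, 0], [1, 0, 0, 1, 0, 0, 2], [0, 0, 0, 0, 1, 0, 0], [0, 0, 0, 0, 2, 1, 0], [0, 0, 0, 0, 0, 0, 1]]
def fus_c1 : M7 := toM [[1, 0, 0, 0, 1, 0, 2], [1, 1, 0, 0, 2, 0, 1], [0, 0, 1, 0, 0, 0, 0], [2, 0, 2, 1, 1, 0, 2], [0, 0, 0, 0, 1, 0, 0], [0, 0, 0, 0, 0, 1, 1], [0, 0, 0, 0, 0, 0, 1]]
def fus_c2 : M7 := toM [[1, 1, 0, 0, 0, 0, 2], [0, 1, 0, 0, 0, 0, 0], [0, 0, 1, 0, 0, 0, 1], [2, 1, 0, 1, 0, 2, 2], [1, 2, 0, 0, 1, 0, 1], [0, 0, 0, 0, 0, 1, 0], [0, 0, 0, 0, 0, 0, 1]]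
def fus_c3 : M7 := toM [[2, 0, 0, 0, 2, 0, 0], [0, 0, 0, 0, 2, 0, 1], [0, 0, 1, 0, 0, 0, 1], [1, 1, 0, 1, 0, 2, 2], [2, 2, 0, 0, 1, 0, 1], [0, 0, 0, 0, 0, 1, 0], [0, 0, 0, 0, 0, 0, 1]]
def fus_c4 : M7 := toM [[2, 0, 0, 0, 2, 0, 1], [0, 0, 0, 0, 2, 0, 1], [0, 0, 1, 0, 0, 0, 1], [0, 1, 0, 1, 1, 2, 2], [2, 2, 0, 0, 1, 0, 0], [0, 0, 0, 0, 0, 1, 0], [0, 0, 0, 0, 0, 0, 1]]
def fus_c5 : M7 := toM [[2, 2, 0, 0, 0, 0, 1], [2, 1, 0, 0, 2, 0, 0], [0, 0, 1, 0, 0, 0, 0], [0, 1, 2, 1, 1, 0, 2], [0, 2, 0, 0, 0, 0, 1], [0, 0, 0, 0, 0, 1, 1], [0, 0, 0, 0, 0, 0, 1]]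
def fus_c6 : M7 := toM [[2, 0, 0, 0, 2, 0, 0], [0, 0, 0, 0, 2, 0, 1], [0, 0, 1, 0, 0, 0, 0], [1, 1, 2, 1, 0, 0, 2], [2, 2, 0, 0, 1, 0, 1], [0, 0, 0, 0, 0, 1, 1], [0, 0, 0, 0, 0, 0, 1]]
def fus_c7 : M7 := toM [[1, 1, 0, 0, 0, 0, 2], [0, 1, 0, 0, 0, 0, 0], [0, 0, 1, 0, 0, 0, 0], [2, 1, 2, 1, 0, 0, 2], [1, 2, 0, 0, 1, 0, 1], [0, 0, 0, 0, 0, 1, 1], [0, 0, 0, 0, 0, 0, 1]]
def fus_c8 : M7 := toM [[1, 0, 0, 0, 1, 0, 2], [1, 1, 0, 0, 2, 0, 1], [0, 0, 1, 0, 0, 0, 1], [2, 0, 0, 1, 1, 2, 2], [0, 0, 0, 0, 1, 0, 0], [0, 0, 0, 0, 0, 1, 0], [0, 0, 0, 0, 0, 0, 1]]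
def fus_c9 : M7 := toM [[1, 0, 0, 0, 0, 0, 1], [0, 1, 0, 0, 0, 1, 0], [0, 0, 1, 0, 2, 0, 0], [1, 0, 0, 1, 0, 0, 2], [0, 0, 0, 0, 1, 0, 0], [0, 0, 0, 0, 0, 1, 0], [0, 0, 0, 0, 0, 0, 1]]

theorem good_c : Good (gel 1 (0, 0, 1, 0, 0, 0)) := by
  refine good_of_goodM (M := fus_c0) (by decide +kernel) ?_
  refine goodM_step (M' := fus_c1) (.lev !![0, 0, 1; 0, 1, 0; 2, 0, 2] !![2, 0, 2; 0, 1, 0; 1, 0, 0]) (by decide +kernel) (by decide +kernel) ?_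
  refine goodM_step (M' := fus_c2) (.w) (by decide +kernel) (by decide +kernel) ?_
  refine goodM_step (M' := fus_c3) (.rad (1, 0, 0, 0, 0, 0)) (by decide +kernel) (by decide +kernel) ?_
  refine goodM_step (M' := fus_c4) (.rad (0, 0, 2, 0, 0, 0)) (by decide +kernel) (by decide +kernel) ?_
  refine goodM_step (M' := fus_c5) (.w) (by decide +kernel) (by decide +kernel) ?_
  refine goodM_step (M' := fus_c6) (.rad (2, 0, 0, 0, 0, 0)) (by decide +kernel) (by decide +kernel) ?_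
  refine goodM_step (M' := fus_c7) (.rad (2, 0, 0, 0, 0, 0)) (by decide +kernel) (by decide +kernel) ?_
  refine goodM_step (M' := fus_c8) (.w) (by decide +kernel) (by decide +kernel) ?_
  refine goodM_step (M' := fus_c9) (.lev !![2, 0, 2; 0, 1, 0; 1, 0, 0] !![0, 0, 1; 0, 1, 0; 2, 0, 2]) (by decide +kernel) (by decide +kernel) ?_
  exact goodM_rep 3 0 (0, 0, 1, 1, 0, 0) rfl (by decide +kernel)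

def fus_d0 : M7 := toM [[1, 0, 0, 0, 0, 0, 2], [0, 1, 1, 0, 0, 0, 0], [0, 0, 1, 0, 0, 0, 0], [2, 0, 0, 1, 0, 0, 2], [0, 0, 0, 0, 1, 0, 0], [0, 0, 0, 0, 2, 1, 0], [0, 0, 0, 0, 0, 0, 1]]
def fus_d1 : M7 := toM [[1, 0, 0, 0, 1, 0, 2], [1, 1, 1, 0, 0, 2, 0], [0, 0, 1, 0, 1, 0, 1], [2, 0, 0, 1, 0, 2, 2], [0, 0, 0, 0, 1, 0, 0], [0, 0, 0, 0, 2, 1, 0], [0, 0, 0, 0, 0, 0, 1]]
def fus_d2 : M7 := toM [[1, 1, 0, 0, 0, 0, 2], [0, 1, 0, 0, 0, 0, 0], [0, 2, 1, 0, 0, 0, 0], [2, 0, 2, 1, 0, 0, 2], [1, 0, 2, 0, 1, 1, 0], [0, 1, 0, 0, 0, 1, 1], [0, 0, 0, 0, 0, 0, 1]]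
def fus_d3 : M7 := toM [[1, 0, 0, 0, 0, 0, 1], [0, 1, 0, 0, 0, 0, 0], [0, 0, 1, 0, 0, 0, 0], [1, 0, 2, 1, 0, 0, 2], [0, 0, 2, 0, 1, 0, 0], [0, 1, 0, 0, 0, 1, 1], [0, 0, 0, 0, 0, 0, 1]]
def fus_d4 : M7 := toM [[1, 0, 0, 0, 0, 0, 1], [0, 1, 0, 0, 0, 2, 0], [0, 0, 1, 0, 1, 0, 1], [1, 0, 0, 1, 0, 2, 2], [0, 0, 0, 0, 1, 0, 0], [0, 0, 0, 0, 0, 1, 0], [0, 0, 0, 0, 0, 0, 1]]
def fus_d5 : M7 := toM [[1, 0, 0, 0, 0, 0, 1], [0, 1, 0, 0, 0, 2, 0], [0, 0, 1, 0, 1, 0, 0], [1, 0, 0, 1, 0, 0, 2], [0, 0, 0, 0, 1, 0, 0], [0, 0, 0, 0, 0, 1, 0], [0, 0, 0, 0, 0, 0, 1]]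

theorem good_d : Good (gel 1 (0, 0, 2, 0, 0, 0)) := by
  refine good_of_goodM (M := fus_d0) (by decide +kernel) ?_
  refine goodM_step (M' := fus_d1) (.rad (0, 2, 0, 0, 0, 0)) (by decide +kernel) (by decide +kernel) ?_
  refine goodM_step (M' := fus_d2) (.w) (by decide +kernel) (by decide +kernel) ?_
  refine goodM_step (M' := fus_d3) (.rad (0, 2, 0, 0, 0, 0)) (by decide +kernel) (by decide +kernel) ?_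
  refine goodM_step (M' := fus_d4) (.w) (by decide +kernel) (by decide +kernel) ?_
  refine goodM_step (M' := fus_d5) (.rad (0, 2, 0, 0, 0, 0)) (by decide +kernel) (by decide +kernel) ?_
  exact goodM_rep 4 0 (0, 0, 1, 2, 0, 0) rfl (by decide +kernel)

def fus_e0 : M7 := toM [[1, 0, 0, 0, 0, 0, 0], [0, 1, 1, 0, 0, 0, 1], [0, 0, 1, 0, 0, 0, 1], [0, 0, 0, 1, 0, 2, 0], [0, 0, 0, 0, 1, 0, 0], [0, 0, 0, 0, 2, 1, 0], [0, 0, 0, 0, 0, 0, 1]]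
def fus_e1 : M7 := toM [[1, 0, 0, 0, 0, 0, 0], [0, 1, 0, 0, 0, 2, 0], [0, 0, 1, 0, 1, 0, 2], [0, 0, 2, 1, 2, 1, 1], [0, 0, 0, 0, 1, 0, 0], [0, 0, 0, 0, 0, 1, 1], [0, 0, 0, 0, 0, 0, 1]]
def fus_e2 : M7 := toM [[1, 0, 0, 0, 0, 0, 0], [0, 1, 1, 1, 0, 2, 1], [0, 0, 1, 0, 0, 0, 1], [0, 0, 0, 1, 0, 2, 0], [0, 0, 0, 0, 1, 0, 0], [0, 0, 0, 0, 2, 1, 0], [0, 0, 0, 0, 2, 0, 1]]
def fus_e3 : M7 := toM [[1, 0, 0, 0, 0, 0, 0], [0, 2, 1, 1, 2, 2, 0], [0, 0, 1, 0, 2, 0, 0], [0, 2, 2, 0, 1, 2, 0], [0, 0, 0, 0, 0, 0, 1], [0, 0, 0, 0, 2, 1, 1], [0, 0, 0, 0, 2, 0, 2]]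
def fus_e4 : M7 := toM [[1, 0, 0, 0, 0, 0, 0], [0, 1, 0, 0, 0, 2, 0], [0, 0, 1, 0, 1, 0, 2], [0, 2, 1, 1, 1, 2, 2], [0, 0, 0, 0, 1, 0, 1], [0, 0, 0, 0, 0, 1, 2], [0, 0, 0, 0, 0, 0, 1]]
def fus_e5 : M7 := toM [[1, 0, 0, 0, 0, 0, 0], [0, 1, 2, 0, 0, 0, 2], [0, 0, 1, 0, 0, 0, 1], [0, 0, 0, 1, 0, 2, 0], [0, 0, 0, 0, 1, 0, 0], [0, 0, 0, 0, 1, 1, 0], [0, 0, 0, 0, 0, 0, 1]]
def fus_e6 : M7 := toM [[1, 0, 0, 0, 0, 0, 0], [0, 1, 0, 0, 0, 0, 0], [0, 1, 1, 0, 0, 0, 0], [0, 0, 2, 1, 0, 0, 0], [0, 0, 0, 0, 1, 2, 2], [0, 0, 0, 0, 0, 1, 1], [0, 0, 0, 0, 0, 0, 1]]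
def fus_e7 : M7 := toM [[1, 0, 0, 0, 0, 0, 0], [0, 1, 1, 0, 0, 0, 0], [0, 0, 1, 1, 0, 0, 0], [0, 0, 0, 1, 0, 0, 0], [0, 0, 0, 0, 1, 0, 0], [0, 0, 0, 0, 2, 1, 0], [0, 0, 0, 0, 1, 2, 1]]

theorem good_e : Good (gel 1 (0, 0, 0, 0, 0, 1)) := by
  refine good_of_goodM (M := fus_e0) (by decide +kernel) ?_
  refine goodM_step (M' := fus_e1) (.lev !![0, 0, 1; 0, 1, 0; 2, 0, 2] !![2, 0, 2; 0, 1, 0; 1, 0, 0]) (by decide +kernel) (by decide +kernel) ?_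
  refine goodM_step (M' := fus_e2) (.lev !![2, 0, 2; 2, 1, 0; 1, 0, 0] !![0, 0, 1; 0, 1, 1; 2, 0, 2]) (by decide +kernel) (by decide +kernel) ?_
  refine goodM_step (M' := fus_e3) (.lev !![2, 1, 2; 0, 1, 0; 1, 0, 0] !![0, 0, 1; 0, 1, 0; 2, 1, 2]) (by decide +kernel) (by decide +kernel) ?_
  refine goodM_step (M' := fus_e4) (.lev !![2, 0, 2; 0, 1, 0; 1, 0, 0] !![0, 0, 1; 0, 1, 0; 2, 0, 2]) (by decide +kernel) (by decide +kernel) ?_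
  refine goodM_step (M' := fus_e5) (.lev !![2, 0, 2; 2, 1, 0; 1, 0, 0] !![0, 0, 1; 0, 1, 1; 2, 0, 2]) (by decide +kernel) (by decide +kernel) ?_
  refine goodM_step (M' := fus_e6) (.w) (by decide +kernel) (by decide +kernel) ?_
  refine goodM_step (M' := fus_e7) (.lev !![2, 0, 2; 0, 1, 0; 1, 0, 0] !![0, 0, 1; 0, 1, 0; 2, 0, 2]) (by decide +kernel) (by decide +kernel) ?_
  exact goodM_rep 5 2 (0, 0, 0, 0, 0, 0) rfl (by decide +kernel)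

def fus_f0 : M7 := toM [[1, 0, 0, 0, 0, 0, 1], [0, 1, 1, 0, 0, 0, 1], [0, 0, 1, 0, 0, 0, 1], [1, 0, 0, 1, 0, 2, 2], [0, 0, 0, 0, 1, 0, 0], [0, 0, 0, 0, 2, 1, 0], [0, 0, 0, 0, 0, 0, 1]]
def fus_f1 : M7 := toM [[1, 0, 0, 0, 2, 0, 1], [2, 1, 1, 0, 0, 2, 1], [0, 0, 1, 0, 1, 0, 2], [1, 0, 0, 1, 0, 1, 2], [0, 0, 0, 0, 1, 0, 0], [0, 0, 0, 0, 2, 1, 0], [0, 0, 0, 0, 0, 0, 1]]
def fus_f2 : M7 := toM [[1, 0, 0, 0, 0, 0, 2], [0, 1, 2, 0, 0, 0, 1], [0, 0, 1, 0, 0, 0, 1], [2, 0, 1, 1, 1, 2, 0], [0, 0, 0, 0, 1, 0, 0], [0, 0, 0, 0, 1, 1, 2], [0, 0, 0, 0, 0, 0, 1]]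
def fus_f3 : M7 := toM [[1, 0, 0, 0, 0, 0, 2], [0, 1, 0, 0, 0, 0, 0], [0, 1, 1, 0, 0, 0, 2], [2, 1, 2, 1, 0, 1, 0], [0, 0, 0, 0, 1, 2, 1], [0, 0, 0, 0, 0, 1, 1], [0, 0, 0, 0, 0, 0, 1]]
def fus_f4 : M7 := toM [[1, 0, 0, 0, 0, 0, 1], [0, 1, 0, 0, 0, 0, 0], [0, 1, 1, 0, 0, 0, 2], [1, 1, 2, 1, 0, 1, 0], [0, 0, 0, 0, 1, 2, 1], [0, 0, 0, 0, 0, 1, 1], [0, 0, 0, 0, 0, 0, 1]]
def fus_f5 : M7 := toM [[1, 0, 0, 0, 0, 0, 0], [0, 1, 0, 0, 0, 0, 0], [0, 1, 1, 0, 0, 0, 0], [0, 1, 2, 1, 0, 0, 0], [0, 0, 0, 0, 1, 2, 1], [0, 0, 0, 0, 0, 1, 1], [0, 0, 0, 0, 0, 0, 1]]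
def fus_f6 : M7 := toM [[1, 0, 0, 0, 0, 0, 0], [0, 1, 1, 0, 0, 0, 0], [0, 0, 1, 1, 0, 0, 0], [0, 0, 0, 1, 0, 0, 0], [0, 0, 0, 0, 1, 0, 0], [0, 0, 0, 0, 2, 1, 0], [0, 0, 0, 0, 1, 2, 1]]

theorem good_f : Good (gel 1 (0, 0, 1, 0, 0, 1)) := by
  refine good_of_goodM (M := fus_f0) (by decide +kernel) ?_
  refine goodM_step (M' := fus_f1) (.rad (0, 1, 0, 0, 0, 0)) (by decide +kernel) (by decide +kernel) ?_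
  refine goodM_step (M' := fus_f2) (.lev !![2, 1, 2; 0, 1, 0; 1, 0, 0] !![0, 0, 1; 0, 1, 0; 2, 1, 2]) (by decide +kernel) (by decide +kernel) ?_
  refine goodM_step (M' := fus_f3) (.w) (by decide +kernel) (by decide +kernel) ?_
  refine goodM_step (M' := fus_f4) (.rad (0, 2, 0, 0, 0, 0)) (by decide +kernel) (by decide +kernel) ?_
  refine goodM_step (M' := fus_f5) (.rad (0, 2, 0, 0, 0, 0)) (by decide +kernel) (by decide +kernel) ?_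
  refine goodM_step (M' := fus_f6) (.lev !![2, 1, 2; 0, 1, 0; 1, 0, 0] !![0, 0, 1; 0, 1, 0; 2, 1, 2]) (by decide +kernel) (by decide +kernel) ?_
  exact goodM_rep 5 2 (0, 0, 0, 0, 0, 0) rfl (by decide +kernel)

def fus_g0 : M7 := toM [[1, 0, 0, 0, 0, 0, 2], [0, 1, 1, 0, 0, 0, 1], [0, 0, 1, 0, 0, 0, 1], [2, 0, 0, 1, 0, 2, 2], [0, 0, 0, 0, 1, 0, 0], [0, 0, 0, 0, 2, 1, 0], [0, 0, 0, 0, 0, 0, 1]]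
def fus_g1 : M7 := toM [[1, 0, 0, 0, 1, 0, 2], [1, 1, 1, 0, 0, 2, 1], [0, 0, 1, 0, 1, 0, 2], [2, 0, 0, 1, 0, 1, 2], [0, 0, 0, 0, 1, 0, 0], [0, 0, 0, 0, 2, 1, 0], [0, 0, 0, 0, 0, 0, 1]]
def fus_g2 : M7 := toM [[1, 0, 0, 0, 0, 0, 1], [0, 1, 2, 0, 0, 0, 1], [0, 0, 1, 0, 0, 0, 1], [1, 0, 1, 1, 1, 2, 0], [0, 0, 0, 0, 1, 0, 0], [0, 0, 0, 0, 1, 1, 2], [0, 0, 0, 0, 0, 0, 1]]
def fus_g3 : M7 := toM [[1, 0, 0, 0, 0, 0, 1], [0, 1, 0, 0, 0, 0, 0], [0, 1, 1, 0, 0, 0, 2], [1, 1, 2, 1, 0, 1, 0], [0, 0, 0, 0, 1, 2, 1], [0, 0, 0, 0, 0, 1, 1], [0, 0, 0, 0, 0, 0, 1]]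
def fus_g4 : M7 := toM [[1, 0, 0, 0, 0, 0, 0], [0, 1, 0, 0, 0, 0, 0], [0, 1, 1, 0, 0, 0, 0], [0, 1, 2, 1, 0, 0, 0], [0, 0, 0, 0, 1, 2, 1], [0, 0, 0, 0, 0, 1, 1], [0, 0, 0, 0, 0, 0, 1]]
def fus_g5 : M7 := toM [[1, 0, 0, 0, 0, 0, 0], [0, 1, 1, 0, 0, 0, 0], [0, 0, 1, 1, 0, 0, 0], [0, 0, 0, 1, 0, 0, 0], [0, 0, 0, 0, 1, 0, 0], [0, 0, 0, 0, 2, 1, 0], [0, 0, 0, 0, 1, 2, 1]]

theorem good_g : Good (gel 1 (0, 0, 2, 0, 0, 1)) := by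
  refine good_of_goodM (M := fus_g0) (by decide +kernel) ?_
  refine goodM_step (M' := fus_g1) (.rad (0, 2, 0, 0, 0, 0)) (by decide +kernel) (by decide +kernel) ?_
  refine goodM_step (M' := fus_g2) (.lev !![2, 1, 2; 0, 1, 0; 1, 0, 0] !![0, 0, 1; 0, 1, 0; 2, 1, 2]) (by decide +kernel) (by decide +kernel) ?_
  refine goodM_step (M' := fus_g3) (.w) (by decide +kernel) (by decide +kernel) ?_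
  refine goodM_step (M' := fus_g4) (.rad (0, 2, 0, 0, 0, 0)) (by decide +kernel) (by decide +kernel) ?_
  refine goodM_step (M' := fus_g5) (.lev !![2, 1, 2; 0, 1, 0; 1, 0, 0] !![0, 0, 1; 0, 1, 0; 2, 1, 2]) (by decide +kernel) (by decide +kernel) ?_
  exact goodM_rep 5 2 (0, 0, 0, 0, 0, 0) rfl (by decide +kernel)

def fus_h0 : M7 := toM [[1, 0, 0, 0, 0, 0, 2], [0, 1, 1, 0, 2, 1, 0], [0, 0, 1, 0, 2, 0, 0], [2, 0, 0, 1, 0, 0, 2], [0, 0, 0, 0, 1, 0, 0], [0, 0, 0, 0, 2, 1, 0], [0, 0, 0, 0, 0, 0, 1]]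
def fus_h1 : M7 := toM [[1, 0, 0, 0, 2, 0, 1], [2, 1, 0, 0, 2, 0, 1], [0, 0, 1, 0, 0, 0, 1], [1, 0, 2, 1, 1, 2, 1], [0, 0, 0, 0, 1, 0, 0], [0, 0, 0, 0, 0, 1, 1], [0, 0, 0, 0, 0, 0, 1]]
def fus_h2 : M7 := toM [[1, 0, 0, 0, 2, 0, 0], [2, 1, 0, 0, 2, 2, 1], [0, 0, 1, 0, 1, 0, 2], [0, 0, 2, 1, 1, 1, 1], [0, 0, 0, 0, 1, 0, 0], [0, 0, 0, 0, 0, 1, 1], [0, 0, 0, 0, 0, 0, 1]]
def fus_h3 : M7 := toM [[1, 0, 0, 0, 2, 0, 2], [2, 1, 0, 0, 2, 1, 1], [0, 0, 1, 0, 2, 0, 1], [2, 0, 2, 1, 1, 2, 1], [0, 0, 0, 0, 1, 0, 0], [0, 0, 0, 0, 0, 1, 1], [0, 0, 0, 0, 0, 0, 1]]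
def fus_h4 : M7 := toM [[1, 2, 0, 0, 0, 0, 2], [0, 1, 0, 0, 0, 0, 0], [0, 0, 1, 0, 0, 0, 1], [2, 1, 2, 1, 0, 2, 1], [2, 2, 1, 0, 1, 0, 1], [0, 2, 0, 0, 0, 1, 1], [0, 0, 0, 0, 0, 0, 1]]
def fus_h5 : M7 := toM [[1, 2, 0, 0, 0, 0, 1], [0, 1, 0, 0, 0, 0, 0], [0, 0, 1, 0, 0, 0, 1], [1, 0, 0, 1, 0, 2, 2], [2, 2, 1, 0, 1, 0, 0], [0, 2, 0, 0, 0, 1, 0], [0, 0, 0, 0, 0, 0, 1]]
def fus_h6 : M7 := toM [[1, 0, 0, 0, 0, 0, 1], [0, 1, 0, 0, 0, 0, 0], [0, 2, 1, 0, 0, 0, 0], [1, 0, 0, 1, 0, 0, 2], [0, 2, 1, 0, 1, 1, 0], [0, 2, 0, 0, 0, 1, 0], [0, 0, 0, 0, 0, 0, 1]]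
def fus_h7 : M7 := toM [[1, 0, 0, 0, 0, 0, 1], [0, 1, 1, 0, 2, 1, 0], [0, 0, 1, 0, 2, 0, 0], [1, 0, 0, 1, 0, 0, 2], [0, 0, 0, 0, 1, 0, 0], [0, 0, 0, 0, 2, 1, 0], [0, 0, 0, 0, 0, 0, 1]]

theorem good_h : Good (gel 1 (0, 0, 2, 1, 0, 0)) := by
  refine good_of_goodM (M := fus_h0) (by decide +kernel) ?_
  refine goodM_step (M' := fus_h1) (.lev !![0, 0, 1; 0, 1, 0; 2, 0, 2] !![2, 0, 2; 0, 1, 0; 1, 0, 0]) (by decide +kernel) (by decide +kernel) ?_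
  refine goodM_step (M' := fus_h2) (.rad (0, 2, 0, 0, 0, 0)) (by decide +kernel) (by decide +kernel) ?_
  refine goodM_step (M' := fus_h3) (.rad (0, 2, 0, 0, 0, 0)) (by decide +kernel) (by decide +kernel) ?_
  refine goodM_step (M' := fus_h4) (.w) (by decide +kernel) (by decide +kernel) ?_
  refine goodM_step (M' := fus_h5) (.rad (0, 0, 0, 0, 2, 0)) (by decide +kernel) (by decide +kernel) ?_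
  refine goodM_step (M' := fus_h6) (.rad (0, 2, 0, 0, 0, 0)) (by decide +kernel) (by decide +kernel) ?_
  refine goodM_step (M' := fus_h7) (.w) (by decide +kernel) (by decide +kernel) ?_
  exact goodM_rep 6 1 (0, 0, 1, 1, 0, 0) rfl (by decide +kernel)

end Cfsg.Agent.H18.O7
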